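import Groth.Agent.Lib.HensConnFib6.Basic
import Groth.Agent.Lib.Branch14.Main
import Groth.Agent.Lib.Hens.Noetherian

/-!
# Local connectedness over geometrically unibranch local rings

For a flat local homomorphism `A → B` with geometrically reduced fibres and `A` geometrically unibranch,
every prime of `B` generizes into a preconnected set of primes over the minimal prime of `A`.
-/

set_option autoImplicit false
set_option linter.style.haveILetI false
universe u

open TensorProduct IsLocalRing

namespace Groth.Agent.UnibrConn6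

/-- A localization of a reduced ring, tensored version. -/
theorem isReduced_tensor_localization {R C B : Type u} [CommRing R] [CommRing C] [CommRing B] [Algebra R C]
    [Algebra C B] [Algebra R B] [IsScalarTower R C B] (M : Submonoid C) [IsLocalization M B]
    (L : Type u) [CommRing L] [Algebra R L] [_root_.IsReduced (L ⊗[R] C)] : _root_.IsReduced (L ⊗[R] B) := by
  let g : L ⊗[R] C →ₐ[L] L ⊗[R] B := Algebra.TensorProduct.map (AlgHom.id L L) (IsScalarTower.toAlgHom R C B)
  letI : Algebra (L ⊗[R] C) (L ⊗[R] B) := g.toRingHom.toAlgebra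
  haveI : IsScalarTower L (L ⊗[R] C) (L ⊗[R] B) := IsScalarTower.of_algebraMap_eq fun x => (g.commutes x).symm
  haveI := IsLocalization.tensorProduct_tensorProduct_right R L M B (RingHom.ext fun a => by
    show g ((1 : L) ⊗ₜ[R] a) = (1 : L) ⊗ₜ[R] algebraMap C B a
    simp [g])
  exact isReduced_localizationPreserves (M.map (Algebra.TensorProduct.includeRight (R := R) (A := L)))
    (L ⊗[R] B) ‹_›

theorem isGeometricallyReduced_fiber {A B : Type u} [CommRing A] [CommRing B] [Algebra A B]
    (hred : ∀ (L : Type u) [Field L] [Algebra A L], _root_.IsReduced (L ⊗[A] B))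
    (p : Ideal A) [p.IsPrime] : Algebra.IsGeometricallyReduced p.ResidueField (p.Fiber B) := by
  rw [Algebra.isGeometricallyReduced_field_iff]
  haveI := hred (AlgebraicClosure p.ResidueField)
  exact isReduced_of_injective
    (Algebra.TensorProduct.cancelBaseChange A p.ResidueField (AlgebraicClosure p.ResidueField)
      (AlgebraicClosure p.ResidueField) B) (AlgEquiv.injective _)

/-- Every prime of `B` generizes into a preconnected set lying over the minimal prime of `A`. -/
theorem exists_connected_generic (A B : Type u) [CommRing A] [IsLocalRing A] [IsNoetherianRing A]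
    [CommRing B] [IsLocalRing B] [Algebra A B] [IsLocalHom (algebraMap A B)] [Module.Flat A B]
    (hGU : CAlg2.IsGeomUnibranch A)
    (hred : ∀ (L : Type u) [Field L] [Algebra A L], _root_.IsReduced (L ⊗[A] B)) :
    ∃ G : Set (PrimeSpectrum B), IsPreconnected G ∧
      (∀ g ∈ G, g.asIdeal.comap (algebraMap A B) ∈ minimalPrimes A) ∧
      ∀ q : PrimeSpectrum B, ∃ g ∈ G, g ≤ q := by
  classical
  let Ah := Hens.Hsh A
  haveI : HenselianLocalRing Ah := Hensel.IsStrictHenselization.henselian (R := A)
  haveI : IsSepClosed (ResidueField Ah) := (Hensel.IsStrictHenselization.isSepClosure (R := A) (S := Ah)).1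
  haveI : IsNoetherianRing Ah := Hens.strictHenselization_isNoetherianRing A Ah
  haveI : Module.FaithfullyFlat A Ah := Hens.strictHenselization_faithfullyFlat A Ah
  obtain ⟨P, hP, huniq⟩ := (Branch14.isGeomUnibranch_iff A Ah).1 hGU
  haveI hPp : P.IsPrime := hP.1.1
  have hPle : ∀ R : Ideal Ah, R.IsPrime → P ≤ R := fun R hR => by
    obtain ⟨R₀, hR₀, hle⟩ := Ideal.exists_minimalPrimes_le (I := (⊥ : Ideal Ah)) (J := R) bot_le
    exact huniq R₀ hR₀ ▸ hle
  have hη : P.comap (algebraMap A Ah) ∈ minimalPrimes A := by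
    refine ⟨⟨Ideal.IsPrime.comap _, bot_le⟩, fun r hr hle => ?_⟩
    haveI := hr.1
    obtain ⟨R, hR⟩ := PrimeSpectrum.comap_surjective_of_faithfullyFlat (A := A) (B := Ah) ⟨r, hr.1⟩
    calc P.comap (algebraMap A Ah) ≤ R.asIdeal.comap (algebraMap A Ah) := Ideal.comap_mono (hPle _ R.2)
      _ = r := congrArg PrimeSpectrum.asIdeal hR
  -- the local ring over `B`
  let T := B ⊗[A] Ah
  haveI : Module.FaithfullyFlat B T := inferInstance
  obtain ⟨M₀, hM₀⟩ := PrimeSpectrum.comap_surjective_of_faithfullyFlat (A := B) (B := T) (IsLocalRing.closedPoint B)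
  obtain ⟨M, hMmax, hMle⟩ := M₀.asIdeal.exists_le_maximal M₀.2.ne_top
  have hMB : M.comap (algebraMap B T) = maximalIdeal B := by
    refine ((IsLocalRing.maximalIdeal.isMaximal B).eq_of_le (Ideal.IsPrime.comap _).ne_top ?_).symm
    calc maximalIdeal B = M₀.asIdeal.comap (algebraMap B T) := (congrArg PrimeSpectrum.asIdeal hM₀).symm
      _ ≤ _ := Ideal.comap_mono hMle
  let B' := Localization.AtPrime M
  let ir : Ah →+* T := (Algebra.TensorProduct.includeRight : Ah →ₐ[A] T).toRingHom
  have hMA : M.comap ir = maximalIdeal Ah := by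
    refine ((IsLocalRing.maximalIdeal.isMaximal Ah).eq_of_le (Ideal.IsPrime.comap _).ne_top ?_).symm
    rw [← Hens.strictHenselization_map_maximalIdeal A Ah, Ideal.map_le_iff_le_comap]
    intro a ha
    show ir (algebraMap A Ah a) ∈ M
    have : ir (algebraMap A Ah a) = algebraMap B T (algebraMap A B a) := by
      show (1 : B) ⊗ₜ[A] (algebraMap A Ah a) = algebraMap A B a ⊗ₜ[A] (1 : Ah)
      rw [Algebra.algebraMap_eq_smul_one, Algebra.algebraMap_eq_smul_one, TensorProduct.smul_tmul]
    rw [this]
    show algebraMap A B a ∈ M.comap (algebraMap B T)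
    rw [hMB]
    exact map_nonunit (algebraMap A B) a ha
  letI : Algebra Ah T := Algebra.TensorProduct.rightAlgebra
  haveI : IsScalarTower Ah T B' := inferInstance
  haveI : IsScalarTower A Ah B' := IsScalarTower.of_algebraMap_eq fun a => by
    show algebraMap A B' a = algebraMap T B' (algebraMap Ah T (algebraMap A Ah a))
    rw [IsScalarTower.algebraMap_apply A T B', ← IsScalarTower.algebraMap_apply A Ah T]
  haveI : Module.Flat Ah T := by
    let e : Ah ⊗[A] B ≃ₗ[Ah] T :=
      { (Algebra.TensorProduct.comm A Ah B).toLinearEquiv.toAddEquiv with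
        map_smul' := fun r x => by
          show Algebra.TensorProduct.comm A Ah B (r • x) = r • Algebra.TensorProduct.comm A Ah B x
          rw [Algebra.smul_def, Algebra.smul_def, map_mul]
          congr 1 }
    exact Module.Flat.of_linearEquiv e.symm
  haveI : Module.Flat T B' := IsLocalization.flat B' M.primeCompl
  haveI : Module.Flat Ah B' := Module.Flat.trans Ah T B'
  haveI : IsLocalHom (algebraMap Ah B') := by
    refine ((local_hom_TFAE _).out 0 4).mpr ?_
    rw [IsScalarTower.algebraMap_eq Ah T B', ← Ideal.comap_comap]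
    show ((maximalIdeal B').under T).comap _ = _
    rw [IsLocalization.AtPrime.under_maximalIdeal B' M]
    exact hMA
  haveI : Module.Flat B B' := Module.Flat.trans B T B'
  haveI : IsLocalHom (algebraMap B B') := by
    refine ((local_hom_TFAE _).out 0 4).mpr ?_
    rw [IsScalarTower.algebraMap_eq B T B', ← Ideal.comap_comap]
    show ((maximalIdeal B').under T).comap _ = _
    rw [IsLocalization.AtPrime.under_maximalIdeal B' M]
    exact hMB
  haveI : Module.FaithfullyFlat B B' := Module.FaithfullyFlat.of_flat_of_isLocalHom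
  have hred' : ∀ (L : Type u) [Field L] [Algebra Ah L], _root_.IsReduced (L ⊗[Ah] B') := by
    intro L _ _
    letI : Algebra A L := ((algebraMap Ah L).comp (algebraMap A Ah)).toAlgebra
    haveI : IsScalarTower A Ah L := IsScalarTower.of_algebraMap_eq fun _ => rfl
    haveI := hred L
    let e₁ : T ≃ₐ[Ah] Ah ⊗[A] B := AlgEquiv.ofRingEquiv
      (f := (Algebra.TensorProduct.comm A B Ah).toRingEquiv) fun r => by
        show Algebra.TensorProduct.comm A B Ah ((1 : B) ⊗ₜ r) = r ⊗ₜ 1
        simp
    haveI : _root_.IsReduced (L ⊗[Ah] (Ah ⊗[A] B)) := isReduced_of_injective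
      (Algebra.TensorProduct.cancelBaseChange A Ah L L B) (AlgEquiv.injective _)
    haveI : _root_.IsReduced (L ⊗[Ah] T) := isReduced_of_injective
      (Algebra.TensorProduct.congr (AlgEquiv.refl (R := Ah) (A₁ := L)) e₁) (AlgEquiv.injective _)
    exact isReduced_tensor_localization M.primeCompl L
  haveI hconn := HensConnFib6.connectedSpace_tensor' Ah B' (fun p _ => isGeometricallyReduced_fiber hred' p)
    (fun N _ _ _ _ M M₀ _ _ => HensConnFib6.eq_of_sepClosed Ah B' N M M₀) P.ResidueField
  let P' : PrimeSpectrum Ah := ⟨P, hPp⟩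
  let φ : PrimeSpectrum (P.Fiber B') → PrimeSpectrum B := fun z =>
    PrimeSpectrum.comap (algebraMap B B')
      (((PrimeSpectrum.preimageHomeomorphFiber Ah B' P').symm z).1)
  have hφc : Continuous φ :=
    (PrimeSpectrum.continuous_comap _).comp (continuous_subtype_val.comp (Homeomorph.continuous _))
  refine ⟨Set.range φ, (isConnected_range hφc).isPreconnected, ?_, fun q => ?_⟩
  · rintro _ ⟨z, rfl⟩
    let w := (PrimeSpectrum.preimageHomeomorphFiber Ah B' P').symm z
    have hw : w.1.asIdeal.comap (algebraMap Ah B') = P := congrArg PrimeSpectrum.asIdeal w.2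
    show (w.1.asIdeal.comap (algebraMap B B')).comap (algebraMap A B) ∈ _
    rw [Ideal.comap_comap, ← IsScalarTower.algebraMap_eq, IsScalarTower.algebraMap_eq A Ah B',
      ← Ideal.comap_comap, hw]
    exact hη
  · obtain ⟨Q, hQ⟩ := PrimeSpectrum.comap_surjective_of_faithfullyFlat (A := B) (B := B') q
    obtain ⟨Q', hle, hQ'p, hlies⟩ :=
      Ideal.exists_ideal_le_liesOver_of_le (S := B') (p := P) Q.asIdeal (hPle _ (Q.2.comap (algebraMap Ah B')))
    let Q'' : PrimeSpectrum B' := ⟨Q', hQ'p⟩
    have hmem : Q'' ∈ PrimeSpectrum.comap (algebraMap Ah B') ⁻¹' {P'} := PrimeSpectrum.ext hlies.1.symm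
    refine ⟨φ (PrimeSpectrum.preimageHomeomorphFiber Ah B' P' ⟨Q'', hmem⟩), ⟨_, rfl⟩, ?_⟩
    show PrimeSpectrum.comap (algebraMap B B')
      ((PrimeSpectrum.preimageHomeomorphFiber Ah B' P').symm
        (PrimeSpectrum.preimageHomeomorphFiber Ah B' P' ⟨Q'', hmem⟩)).1 ≤ q
    rw [Homeomorph.symm_apply_apply, ← hQ]
    exact Ideal.comap_mono hle

end Groth.Agent.UnibrConn6
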