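import Groth.Agent.Lib.UnibrConn6.Local
import Groth.Agent.Lib.H12.Specialization
import Mathlib.AlgebraicGeometry.Morphisms.Flat
import Mathlib.AlgebraicGeometry.Geometrically.Reduced

/-!
# Connectedness of complements over geometrically unibranch bases
-/

set_option autoImplicit false
set_option linter.style.haveILetI false
set_option backward.isDefEq.respectTransparency.types false
universe u

open CategoryTheory CategoryTheory.Limits AlgebraicGeometry TopologicalSpace TensorProduct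

namespace Groth.Agent.UnibrConn6

/-- In a locally noetherian scheme a point in the closure of an open subset has a generization in it. -/
theorem exists_specializes_of_mem_closure {X : Scheme.{u}} [IsLocallyNoetherian X] (V : X.Opens) (x : X)
    (hx : x ∈ closure (V : Set X)) : ∃ z ∈ V, z ⤳ x := by
  obtain ⟨t, ht⟩ := H12.exists_specializes_of_mem_closure_range V.ι x (by rwa [Scheme.Opens.range_ι])
  exact ⟨V.ι t, t.2, ht⟩

/-- A maximal point of a locally noetherian scheme is outside every closed set with empty interior. -/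
theorem notMem_of_interior_eq_empty {X : Scheme.{u}} [IsLocallyNoetherian X] {C : Set X} (hC : IsClosed C)
    (hC' : interior C = ∅) (x : X) (hmax : ∀ z, z ⤳ x → z = x) : x ∉ C := by
  intro hx
  obtain ⟨z, hzV, hz⟩ := exists_specializes_of_mem_closure (X := X) ⟨Cᶜ, hC.isOpen_compl⟩ x
    (by rw [TopologicalSpace.Opens.coe_mk, closure_compl, hC']; simp)
  exact hzV (by rwa [hmax z hz])

theorem geometricallyReduced_appLE {X Y : Scheme.{u}} (f : X ⟶ Y) [GeometricallyReduced f]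
    {U : X.Opens} (hU : IsAffineOpen U) {V : Y.Opens} (hV : IsAffineOpen V) (e : U ≤ f ⁻¹ᵁ V) :
    GeometricallyReduced (Spec.map (f.appLE V U e)) := by
  have hg : GeometricallyReduced (hU.fromSpec ≫ f) := by
    rw [geometricallyReduced_iff]
    refine geometrically_iff_of_isClosedUnderIsomorphisms.2 fun K _ y => ?_
    haveI : IsReduced (pullback f y) := GeometricallyReduced.geometrically_isReduced _ _ _ (.of_hasPullback _ _)
    haveI : IsReduced (pullback hU.fromSpec (pullback.fst f y)) :=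
      isReduced_of_isOpenImmersion (pullback.snd hU.fromSpec (pullback.fst f y))
    exact isReduced_of_isOpenImmersion (pullbackRightPullbackFstIso f y hU.fromSpec).inv
  rw [← IsAffineOpen.SpecMap_appLE_fromSpec f hV hU e] at hg
  haveI := hg
  refine MorphismProperty.of_isPullback (P := @GeometricallyReduced) (f := hV.fromSpec)
    (f' := 𝟙 (Spec Γ(X, U))) (g' := Spec.map (f.appLE V U e)) (g := Spec.map (f.appLE V U e) ≫ hV.fromSpec) ?_ hg
  refine ⟨⟨by simp⟩, ⟨PullbackCone.IsLimit.mk (by simp) (fun s => s.fst) (fun s => by simp)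
    (fun s => ?_) (fun s m h1 h2 => by simpa using h1)⟩⟩
  rw [← cancel_mono hV.fromSpec, Category.assoc]
  exact s.condition

theorem isReduced_tensor_stalk {X Y : Scheme.{u}} (f : X ⟶ Y) [GeometricallyReduced f] (x : X)
    (L : Type u) [Field L] :
    letI := (f.stalkMap x).hom.toAlgebra
    ∀ [Algebra (Y.presheaf.stalk (f x)) L],
      _root_.IsReduced (L ⊗[(Y.presheaf.stalk (f x) : Type u)] (X.presheaf.stalk x : Type u)) := by
  intro alg
  letI := (f.stalkMap x).hom.toAlgebra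
  obtain ⟨_, ⟨V, hV, rfl⟩, hyV, -⟩ :=
    Y.isBasis_affineOpens.exists_subset_of_mem_open (Set.mem_univ (f x)) isOpen_univ
  obtain ⟨_, ⟨U, hU, rfl⟩, hxU, hUV⟩ :=
    X.isBasis_affineOpens.exists_subset_of_mem_open (show x ∈ f ⁻¹ᵁ V from hyV) (f ⁻¹ᵁ V).isOpen
  let φ := f.appLE V U hUV
  letI : Algebra Γ(Y, V) Γ(X, U) := φ.hom.toAlgebra
  letI : Algebra Γ(Y, V) (Y.presheaf.stalk (f x)) := (Y.presheaf.germ V (f x) hyV).hom.toAlgebra
  letI : Algebra Γ(X, U) (X.presheaf.stalk x) := (X.presheaf.germ U x hxU).hom.toAlgebra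
  letI : Algebra Γ(Y, V) (X.presheaf.stalk x) :=
    ((f.stalkMap x).hom.comp (Y.presheaf.germ V (f x) hyV).hom).toAlgebra
  haveI : IsScalarTower Γ(Y, V) (Y.presheaf.stalk (f x)) (X.presheaf.stalk x) :=
    IsScalarTower.of_algebraMap_eq fun _ => rfl
  haveI : IsScalarTower Γ(Y, V) Γ(X, U) (X.presheaf.stalk x) := IsScalarTower.of_algebraMap_eq' (by
    show (f.stalkMap x).hom.comp (Y.presheaf.germ V (f x) hyV).hom = (X.presheaf.germ U x hxU).hom.comp φ.hom
    rw [← CommRingCat.hom_comp, ← CommRingCat.hom_comp]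
    congr 1
    simp [φ, Scheme.Hom.germ_stalkMap, Scheme.Hom.appLE])
  letI : Algebra Γ(Y, V) L := ((algebraMap (Y.presheaf.stalk (f x)) L).comp (algebraMap Γ(Y, V) _)).toAlgebra
  haveI : IsScalarTower Γ(Y, V) (Y.presheaf.stalk (f x)) L := IsScalarTower.of_algebraMap_eq fun _ => rfl
  haveI : IsLocalization.AtPrime (Y.presheaf.stalk (f x)) (hV.primeIdealOf ⟨f x, hyV⟩).asIdeal :=
    hV.isLocalization_stalk ⟨f x, hyV⟩
  haveI : IsLocalization.AtPrime (X.presheaf.stalk x) (hU.primeIdealOf ⟨x, hxU⟩).asIdeal :=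
    hU.isLocalization_stalk ⟨x, hxU⟩
  haveI : GeometricallyReduced (Spec.map (CommRingCat.ofHom (algebraMap Γ(Y, V) Γ(X, U)))) :=
    geometricallyReduced_appLE f hU hV hUV
  haveI := HensConnFib6.isReduced_tensor_of_geometricallyReduced Γ(Y, V) Γ(X, U) L
  haveI : _root_.IsReduced (L ⊗[Γ(Y, V)] (X.presheaf.stalk x : Type u)) :=
    isReduced_tensor_localization (C := Γ(X, U)) (hU.primeIdealOf ⟨x, hxU⟩).asIdeal.primeCompl L
  exact isReduced_of_injective
    (IsLocalization.algebraTensorEquiv (hV.primeIdealOf ⟨f x, hyV⟩).asIdeal.primeCompl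
      (Y.presheaf.stalk (f x) : Type u) L (X.presheaf.stalk x : Type u))
    (AlgEquiv.injective _)

/-- Near each point, the generic fibres are preconnected. -/
theorem exists_connected_generizations {X Y : Scheme.{u}} [IsLocallyNoetherian Y] (f : X ⟶ Y) [Flat f]
    [GeometricallyReduced f] (x : X) (hy : CAlg2.IsGeomUnibranch (Y.presheaf.stalk (f x))) :
    ∃ G : Set X, _root_.IsPreconnected G ∧ (∀ g ∈ G, g ⤳ x ∧ ∀ y : Y, y ⤳ f g → y = f g) ∧
      ∀ z : X, z ⤳ x → ∃ g ∈ G, g ⤳ z := by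
  letI := (f.stalkMap x).hom.toAlgebra
  haveI : Module.Flat (Y.presheaf.stalk (f x)) (X.presheaf.stalk x) := Flat.stalkMap f x
  haveI : IsLocalHom (algebraMap (Y.presheaf.stalk (f x)) (X.presheaf.stalk x)) := f.toLRSHom.prop x
  obtain ⟨G, hG, hmin, hgen⟩ := exists_connected_generic (Y.presheaf.stalk (f x) : Type u)
    (X.presheaf.stalk x : Type u) hy (fun L _ _ => isReduced_tensor_stalk f x L)
  have hc : ∀ q : PrimeSpectrum (X.presheaf.stalk x),
      f (X.fromSpecStalk x q) = Y.fromSpecStalk (f x) (PrimeSpectrum.comap (f.stalkMap x).hom q) := fun q => by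
    rw [← Scheme.Hom.comp_apply, ← Scheme.SpecMap_stalkMap_fromSpecStalk]
    rfl
  refine ⟨X.fromSpecStalk x '' G, hG.image _ (X.fromSpecStalk x).continuous.continuousOn, ?_, ?_⟩
  · rintro _ ⟨q, hq, rfl⟩
    refine ⟨?_, fun y hy' => ?_⟩
    · have : X.fromSpecStalk x q ∈ Set.range (X.fromSpecStalk x) := ⟨q, rfl⟩
      rw [Scheme.range_fromSpecStalk] at this
      exact this
    · have hy2 : y ⤳ f x := hy'.trans ((show X.fromSpecStalk x q ⤳ x by
        have : X.fromSpecStalk x q ∈ Set.range (X.fromSpecStalk x) := ⟨q, rfl⟩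
        rwa [Scheme.range_fromSpecStalk] at this).map f.continuous)
      obtain ⟨r, rfl⟩ : y ∈ Set.range (Y.fromSpecStalk (f x)) := by rwa [Scheme.range_fromSpecStalk]
      rw [hc] at hy' ⊢
      rw [(Y.fromSpecStalk (f x)).isEmbedding.isInducing.specializes_iff] at hy'
      have hle : r.asIdeal ≤ q.asIdeal.comap (f.stalkMap x).hom :=
        (PrimeSpectrum.le_iff_specializes (r : PrimeSpectrum (Y.presheaf.stalk (f x)))
          (PrimeSpectrum.comap (f.stalkMap x).hom q)).2 hy'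
      exact congrArg _ (PrimeSpectrum.ext (le_antisymm hle ((hmin q hq).2 ⟨r.2, bot_le⟩ hle)))
  · intro z hz
    obtain ⟨q, rfl⟩ : z ∈ Set.range (X.fromSpecStalk x) := by rwa [Scheme.range_fromSpecStalk]
    obtain ⟨g, hg, hle⟩ := hgen q
    exact ⟨_, ⟨g, hg, rfl⟩, ((PrimeSpectrum.le_iff_specializes g q).1 hle).map (X.fromSpecStalk x).continuous⟩

theorem isConnected_compl {X Y : Scheme.{u}} [IsLocallyNoetherian X]
    [IsLocallyNoetherian Y] [ConnectedSpace ↥X] (hY : ∀ y : Y, CAlg2.IsGeomUnibranch (Y.presheaf.stalk y))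
    (f : X ⟶ Y) [Flat f] [GeometricallyReduced f]
    (T : Set ↥X) (hT : IsClosed T) (hT' : interior (closure (f.base '' T)) = ∅) :
    IsConnected Tᶜ := by
  have hG : ∀ x : X, ∃ G : Set X, _root_.IsPreconnected G ∧ G ⊆ Tᶜ ∧ (∀ z : X, z ⤳ x → ∃ g ∈ G, g ⤳ z) ∧ ∀ g ∈ G, g ⤳ x := by
    intro x
    obtain ⟨G, hG, hmax, hgen⟩ := exists_connected_generizations f x (hY _)
    exact ⟨G, hG, fun g hg hgT => notMem_of_interior_eq_empty isClosed_closure hT' (f g) (hmax g hg).2
      (subset_closure ⟨g, hgT, rfl⟩), hgen, fun g hg => (hmax g hg).1⟩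
  refine ⟨?_, ?_⟩
  · obtain ⟨x⟩ := (inferInstance : Nonempty X)
    obtain ⟨G, -, hGT, hgen, -⟩ := hG x
    obtain ⟨g, hg, -⟩ := hgen x specializes_rfl
    exact ⟨g, hGT hg⟩
  intro u v hu hv huv hnu hnv
  by_contra hne
  rw [Set.not_nonempty_iff_eq_empty] at hne
  let V₁ : X.Opens := ⟨Tᶜ ∩ u, hT.isOpen_compl.inter hu⟩
  let V₂ : X.Opens := ⟨Tᶜ ∩ v, hT.isOpen_compl.inter hv⟩
  have hdisj : ∀ z, z ∈ V₁ → z ∈ V₂ → False := fun z h1 h2 =>
    Set.notMem_empty z (hne ▸ ⟨h1.1, h1.2, h2.2⟩)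
  have hsep : ∀ x, x ∈ closure (V₁ : Set X) → x ∈ closure (V₂ : Set X) → False := by
    intro x h1 h2
    obtain ⟨G, hGc, hGT, hgen, -⟩ := hG x
    obtain ⟨z₁, hz₁, hs₁⟩ := exists_specializes_of_mem_closure V₁ x h1
    obtain ⟨z₂, hz₂, hs₂⟩ := exists_specializes_of_mem_closure V₂ x h2
    obtain ⟨g₁, hg₁, hgs₁⟩ := hgen z₁ hs₁
    obtain ⟨g₂, hg₂, hgs₂⟩ := hgen z₂ hs₂
    have h₁ : g₁ ∈ V₁ := hgs₁.mem_open V₁.isOpen hz₁
    have h₂ : g₂ ∈ V₂ := hgs₂.mem_open V₂.isOpen hz₂
    obtain ⟨g, hg, hgu, hgv⟩ := hGc u v hu hv (hGT.trans huv) ⟨g₁, hg₁, h₁.2⟩ ⟨g₂, hg₂, h₂.2⟩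
    exact hdisj g ⟨hGT hg, hgu⟩ ⟨hGT hg, hgv⟩
  have hcov : closure (V₁ : Set X) ∪ closure (V₂ : Set X) = Set.univ := by
    refine Set.eq_univ_of_forall fun x => ?_
    obtain ⟨G, -, hGT, hgen, hGx⟩ := hG x
    obtain ⟨g, hg, -⟩ := hgen x specializes_rfl
    rcases huv (hGT hg) with h | h
    · exact Or.inl ((hGx g hg).mem_closed isClosed_closure (subset_closure ⟨hGT hg, h⟩))
    · exact Or.inr ((hGx g hg).mem_closed isClosed_closure (subset_closure ⟨hGT hg, h⟩))
  obtain ⟨a, ha⟩ := hnu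
  obtain ⟨b, hb⟩ := hnv
  obtain ⟨x, -, hx1, hx2⟩ := isPreconnected_closed_iff.1 isPreconnected_univ _ _ isClosed_closure isClosed_closure
    hcov.ge ⟨a, trivial, subset_closure ha⟩ ⟨b, trivial, subset_closure hb⟩
  exact hsep x hx1 hx2

end Groth.Agent.UnibrConn6
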