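import Groth.Agent.Lib.UnibrConn6.LocalTensor
import Groth.Agent.Lib.Branch14.Birational
import Groth.Agent.Lib.VarDim.Alg
import Groth.Agent.S12124
import Mathlib.LinearAlgebra.TensorProduct.Pi

/-!
# Punctured connectedness over geometrically unibranch domains of dimension at least two
-/

set_option autoImplicit false
set_option linter.style.haveILetI false
universe u

open TensorProduct IsLocalRing

namespace Groth.Agent.UnibrConn6

/-- Hartogs for the normalization of a unibranch local domain of dimension at least two. -/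
theorem mem_integralClosure_of_pow_mul_mem {A : Type u} [CommRing A] [IsDomain A] [IsNoetherianRing A]
    [IsLocalRing A] [IsLocalRing (integralClosure A (FractionRing A))] (hdim : 2 ≤ ringKrullDim A)
    {z : FractionRing A}
    (hz : ∀ s ∈ maximalIdeal A, ∃ N : ℕ, algebraMap A (FractionRing A) (s ^ N) * z ∈ integralClosure A (FractionRing A)) :
    z ∈ integralClosure A (FractionRing A) := by
  obtain ⟨C, hC, -, hmem, -⟩ := Groth.Agent.S12124.result (A := A)
  refine (hmem z).2 fun p hp hp1 => ?_
  haveI := hC
  haveI : Algebra.IsIntegral A C := Algebra.IsIntegral.of_finite A C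
  by_cases hall : ∀ s ∈ maximalIdeal A, algebraMap A C s ∈ p
  · exfalso
    have hp' : p.comap (algebraMap A C) = maximalIdeal A :=
      ((IsLocalRing.maximalIdeal.isMaximal A).eq_of_le (Ideal.IsPrime.comap _).ne_top hall).symm
    have hCle : C ≤ integralClosure A (FractionRing A) := fun x hx =>
      (Algebra.IsIntegral.isIntegral (R := A) (⟨x, hx⟩ : C)).map C.val
    let A' := integralClosure A (FractionRing A)
    let i : C →+* A' := (Subalgebra.inclusion hCle).toRingHom
    haveI hCloc : IsLocalRing C := by
      refine IsLocalRing.of_unique_max_ideal ⟨(maximalIdeal A').comap i, ?_, fun J hJ => ?_⟩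
      · haveI : ((maximalIdeal A').comap i).IsPrime := Ideal.IsPrime.comap _
        refine Ideal.isMaximal_of_isIntegral_of_isMaximal_comap (R := A) _ ?_
        rw [Ideal.comap_comap, show i.comp (algebraMap A C) = algebraMap A A' from
          (Subalgebra.inclusion hCle).comp_algebraMap]
        exact Ideal.isMaximal_comap_of_isIntegral_of_isMaximal (R := A) (maximalIdeal A')
      · letI := i.toAlgebra
        haveI : IsScalarTower A C A' := IsScalarTower.of_algebraMap_eq fun _ => rfl
        haveI : Algebra.IsIntegral C A' := Algebra.IsIntegral.tower_top A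
        have hinj : Function.Injective i := Subalgebra.inclusion_injective hCle
        haveI : FaithfulSMul C A' := (faithfulSMul_iff_algebraMap_injective C A').2 hinj
        obtain ⟨R, hR⟩ := Algebra.IsIntegral.comap_surjective C A' ⟨J, hJ.isPrime⟩
        refine hJ.eq_of_le (Ideal.IsPrime.comap (f := i) (K := maximalIdeal A')).ne_top ?_
        rw [show J = R.asIdeal.comap i from (congrArg PrimeSpectrum.asIdeal hR).symm]
        exact Ideal.comap_mono (IsLocalRing.le_maximalIdeal R.2.ne_top)
    have hmax : p = maximalIdeal C := by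
      haveI : p.IsMaximal := Ideal.isMaximal_of_isIntegral_of_isMaximal_comap (R := A) p
        (by rw [hp']; infer_instance)
      exact IsLocalRing.eq_maximalIdeal ‹_›
    have hd : ringKrullDim C = ringKrullDim A :=
      VarDim.ringKrullDim_eq_of_isIntegral (R := A) (S := C) (fun a b h => IsFractionRing.injective A (FractionRing A)
        (congrArg (Subtype.val : C → FractionRing A) h))
    rw [← hd, ← IsLocalRing.maximalIdeal_height_eq_ringKrullDim, ← hmax, hp1] at hdim
    exact absurd hdim (by norm_num)
  · push Not at hall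
    obtain ⟨s, hs, hsp⟩ := hall
    obtain ⟨N, hN⟩ := hz s hs
    exact ⟨algebraMap A C (s ^ N), fun h => hsp (hp.mem_of_pow_mem N (by rwa [← map_pow])),
      IsIntegral.tower_top (A := C) hN⟩

theorem pow_mem_of_span {A : Type u} [CommRing A] [IsDomain A] [IsNoetherianRing A] [IsLocalRing A] (z : FractionRing A)
    (S : Finset A) (hS : Ideal.span (S : Set A) = maximalIdeal A) (N : ∀ s ∈ S, ℕ)
    (hz : ∀ s (hs : s ∈ S), algebraMap A (FractionRing A) (s ^ N s hs) * z ∈ integralClosure A (FractionRing A)) :
    ∀ s ∈ maximalIdeal A, ∃ n : ℕ, algebraMap A (FractionRing A) (s ^ n) * z ∈ integralClosure A (FractionRing A) := by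
  let A' := integralClosure A (FractionRing A)
  let I : Ideal A :=
    { carrier := {a | algebraMap A (FractionRing A) a * z ∈ A'}
      zero_mem' := by
        show algebraMap A (FractionRing A) 0 * z ∈ A'
        rw [map_zero, zero_mul]; exact zero_mem _
      add_mem' := fun {a b} ha hb => by
        show algebraMap A (FractionRing A) (a + b) * z ∈ A'
        rw [map_add, add_mul]; exact add_mem ha hb
      smul_mem' := fun c a ha => by
        show algebraMap A (FractionRing A) (c * a) * z ∈ A'
        rw [map_mul, mul_assoc]; exact mul_mem (A'.algebraMap_mem _) ha }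
  have hle : maximalIdeal A ≤ I.radical := by
    rw [← hS, Ideal.span_le]
    exact fun s hs => ⟨N s hs, hz s hs⟩
  exact fun s hs => hle hs

/-- Descending a local section of `B ⊗ K` to `B ⊗ A'`. -/
theorem mem_range_tensor (A B : Type u) [CommRing A] [IsDomain A] [IsNoetherianRing A] [IsLocalRing A]
    [IsLocalRing (integralClosure A (FractionRing A))] (hdim : 2 ≤ ringKrullDim A)
    [CommRing B] [Algebra A B] [Module.Flat A B] (e : B ⊗[A] FractionRing A)
    (he : ∀ s ∈ maximalIdeal A, ∃ N : ℕ, (s ^ N) • e ∈ LinearMap.range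
      ((integralClosure A (FractionRing A)).val.toLinearMap.lTensor B)) :
    e ∈ LinearMap.range ((integralClosure A (FractionRing A)).val.toLinearMap.lTensor B) := by
  classical
  let K := FractionRing A
  let A' := integralClosure A K
  obtain ⟨S, hS⟩ := (IsNoetherian.noetherian (maximalIdeal A) : (maximalIdeal A).FG)
  have hN : ∀ s ∈ S, ∃ N : ℕ, (s ^ N) • e ∈ LinearMap.range (A'.val.toLinearMap.lTensor B) := fun s hs =>
    he s (hS ▸ Ideal.subset_span hs)
  choose N hN using hN
  let M : Submodule A K := Subalgebra.toSubmodule A'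
  let φ : K ⧸ M →ₗ[A] ({ s // s ∈ S } → K ⧸ M) := LinearMap.pi fun s => (s.1 ^ N s.1 s.2) • LinearMap.id
  have hφ : Function.Injective φ := by
    rw [← LinearMap.ker_eq_bot, eq_bot_iff]
    intro x hx
    obtain ⟨z, rfl⟩ := Submodule.Quotient.mk_surjective M x
    refine (Submodule.Quotient.mk_eq_zero M).2 ?_
    refine mem_integralClosure_of_pow_mul_mem hdim (pow_mem_of_span z S hS N fun s hs => ?_)
    have hxs := congrFun (LinearMap.mem_ker.1 hx) ⟨s, hs⟩
    simp only [φ, LinearMap.pi_apply, LinearMap.smul_apply, LinearMap.id_apply, Pi.zero_apply,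
      ← Submodule.Quotient.mk_smul, Submodule.Quotient.mk_eq_zero] at hxs
    rw [← Algebra.smul_def]
    exact hxs
  have hex : Function.Exact A'.val.toLinearMap M.mkQ := fun z => by
    constructor
    · exact fun hz => ⟨⟨z, (Submodule.Quotient.mk_eq_zero M).1 hz⟩, rfl⟩
    · rintro ⟨w, rfl⟩; exact (Submodule.Quotient.mk_eq_zero M).2 w.2
  have hex' := lTensor_exact (R := A) B hex M.mkQ_surjective
  refine (hex' e).1 ?_
  have hφ' : Function.Injective (φ.lTensor B) := Module.Flat.lTensor_preserves_injective_linearMap φ hφ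
  refine hφ' ((TensorProduct.piRight A A B (fun _ : { s // s ∈ S } => K ⧸ M)).injective ?_)
  rw [map_zero, map_zero]
  ext s
  have h1 : ∀ y : B ⊗[A] K, (TensorProduct.piRight A A B (fun _ : { s // s ∈ S } => K ⧸ M))
      (φ.lTensor B (M.mkQ.lTensor B y)) s = M.mkQ.lTensor B ((s.1 ^ N s.1 s.2) • y) := by
    intro y
    induction y using TensorProduct.induction_on with
    | zero => simp
    | tmul b k => simp [φ, TensorProduct.tmul_smul]
    | add y z hy hz => simp only [map_add, Pi.add_apply, smul_add, hy, hz]
  rw [h1]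
  exact (hex' _).2 (hN s.1 s.2)

theorem flat_right (A B N : Type u) [CommRing A] [CommRing B] [CommRing N] [Algebra A B] [Algebra A N]
    [Module.Flat A B] :
    letI : Algebra N (B ⊗[A] N) := Algebra.TensorProduct.rightAlgebra
    Module.Flat N (B ⊗[A] N) := by
  letI : Algebra N (B ⊗[A] N) := Algebra.TensorProduct.rightAlgebra
  let e : N ⊗[A] B ≃ₗ[N] B ⊗[A] N :=
    { (Algebra.TensorProduct.comm A N B).toLinearEquiv.toAddEquiv with
      map_smul' := fun r x => by
        show Algebra.TensorProduct.comm A N B (r • x) = r • Algebra.TensorProduct.comm A N B x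
        rw [Algebra.smul_def, Algebra.smul_def, map_mul]
        congr 1 }
  exact Module.Flat.of_linearEquiv e.symm

set_option maxHeartbeats 400000 in
/-- Every prime of `B ⊗ N` generizes into the generic fibre. -/
theorem exists_generization (A B : Type u) [CommRing A] [IsDomain A] [CommRing B] [Algebra A B] [Module.Flat A B]
    (N : Subalgebra A (FractionRing A)) (q : PrimeSpectrum (B ⊗[A] N)) :
    ∃ z : PrimeSpectrum (B ⊗[A] FractionRing A), PrimeSpectrum.comap
      (Algebra.TensorProduct.map (AlgHom.id B B) N.val).toRingHom z ≤ q := by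
  let K := FractionRing A
  let T := B ⊗[A] N
  let L := B ⊗[A] K
  let g : T →ₐ[B] L := Algebra.TensorProduct.map (AlgHom.id B B) N.val
  letI : Algebra N T := Algebra.TensorProduct.rightAlgebra
  haveI : Module.Flat N T := flat_right A B N
  have hN : Function.Injective (algebraMap A N) := fun a b h =>
    IsFractionRing.injective A K (congrArg Subtype.val h)
  obtain ⟨Q, hle, hQp, hlies⟩ := Ideal.exists_ideal_le_liesOver_of_le (S := T) (p := (⊥ : Ideal N)) q.asIdeal
    (bot_le : (⊥ : Ideal N) ≤ q.asIdeal.under N)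
  haveI := hQp
  let F := Q.ResidueField
  let χ : T →ₐ[A] F := IsScalarTower.toAlgHom A T F
  have hχ0 : ∀ t : A, t ≠ 0 → algebraMap A F t ≠ 0 := fun t ht0 h0 => by
    rw [← χ.commutes] at h0
    have h1 : algebraMap A T t ∈ Q := Ideal.algebraMap_residueField_eq_zero.1 h0
    have h2 : algebraMap A N t ∈ Q.comap (algebraMap N T) := by
      show algebraMap N T (algebraMap A N t) ∈ Q
      rwa [show algebraMap N T (algebraMap A N t) = algebraMap A T t from
        (Algebra.TensorProduct.includeRight : N →ₐ[A] T).commutes t]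
    rw [show Q.comap (algebraMap N T) = ⊥ from hlies.1.symm, Ideal.mem_bot] at h2
    exact ht0 (hN (by rw [h2, map_zero]))
  let κ : K →ₐ[A] F := IsLocalization.liftAlgHom (M := nonZeroDivisors A) (f := Algebra.ofId A F)
    fun t => IsUnit.mk0 _ (hχ0 t.1 (nonZeroDivisors.ne_zero t.2))
  let θ : L →ₐ[A] F := Algebra.TensorProduct.lift
    (χ.comp (Algebra.TensorProduct.includeLeft : B →ₐ[A] T)) κ fun _ _ => .all _ _
  have hθ : θ.comp (g.restrictScalars A) = χ := by
    refine Algebra.TensorProduct.ext' fun b x => ?_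
    show θ (b ⊗ₜ[A] (x : K)) = χ (b ⊗ₜ[A] x)
    obtain ⟨c, d, hd, hcd⟩ := IsFractionRing.div_surjective (A := A) (x : K)
    have hd0 := nonZeroDivisors.ne_zero hd
    have hdK : algebraMap A K d ≠ 0 := IsFractionRing.to_map_ne_zero_of_mem_nonZeroDivisors hd
    have hdx : algebraMap A N d * x = algebraMap A N c := Subtype.ext (by
      show algebraMap A K d * (x : K) = algebraMap A K c
      rw [← hcd, mul_div_cancel₀ _ hdK])
    rw [Algebra.TensorProduct.lift_tmul, show b ⊗ₜ[A] x = (b ⊗ₜ[A] (1 : N)) * ((1 : B) ⊗ₜ[A] x) by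
      rw [Algebra.TensorProduct.tmul_mul_tmul, mul_one, one_mul], map_mul]
    congr 1
    refine mul_left_cancel₀ (hχ0 d hd0) ?_
    conv_lhs => rw [← κ.commutes, ← map_mul]
    conv_rhs => rw [← χ.commutes, ← map_mul]
    rw [show algebraMap A T d * ((1 : B) ⊗ₜ[A] x) = (1 : B) ⊗ₜ[A] (algebraMap A N d * x) by
      rw [← (Algebra.TensorProduct.includeRight : N →ₐ[A] T).commutes d]
      exact (map_mul (Algebra.TensorProduct.includeRight : N →ₐ[A] T) _ _).symm, hdx,
      show algebraMap A K d * (x : K) = algebraMap A K c from congrArg Subtype.val hdx, κ.commutes,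
      show (1 : B) ⊗ₜ[A] algebraMap A N c = algebraMap A T c from
        (Algebra.TensorProduct.includeRight : N →ₐ[A] T).commutes c, χ.commutes]
  refine ⟨⟨RingHom.ker θ.toRingHom, RingHom.ker_isPrime _⟩, fun w hw => hle ?_⟩
  have hw' : θ (g w) = 0 := hw
  rw [show θ (g w) = χ w from AlgHom.congr_fun hθ w] at hw'
  exact Ideal.algebraMap_residueField_eq_zero.1 hw'

set_option maxHeartbeats 400000 in
/-- The punctured spectrum of a flat local algebra over a geometrically unibranch local domain of
dimension at least two is preconnected, after removing the closed fibre. -/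
theorem isPreconnected_compl_closedFibre (A B : Type u) [CommRing A] [IsDomain A] [IsNoetherianRing A]
    [IsLocalRing A] (hGU : CAlg2.IsGeomUnibranch A) (hdim : 2 ≤ ringKrullDim A) [CommRing B] [IsLocalRing B]
    [Algebra A B] [IsLocalHom (algebraMap A B)] [Module.Flat A B] :
    _root_.IsPreconnected {q : PrimeSpectrum B | q.asIdeal.comap (algebraMap A B) ≠ maximalIdeal A} := by
  classical
  let K := FractionRing A
  let A' := integralClosure A K
  have hmodel : Branch14.Bir.Model A K :=
    { ker_eq := by
        rw [(RingHom.injective_iff_ker_eq_bot _).1 (IsFractionRing.injective A K), nilradical_eq_zero]; rfl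
      exists_frac := fun z => by
        obtain ⟨a, b, hb, rfl⟩ := IsFractionRing.div_surjective (A := A) z
        have hb0 : algebraMap A K b ≠ 0 := IsFractionRing.to_map_ne_zero_of_mem_nonZeroDivisors hb
        exact ⟨a, b, hb0, div_mul_cancel₀ _ hb0⟩ }
  obtain ⟨hloc, hpi⟩ := hmodel.isGeomUnibranch_iff.1 hGU
  haveI := hloc
  have hinjA' : Function.Injective (algebraMap A A') := fun a b h =>
    IsFractionRing.injective A K (congrArg Subtype.val h)
  haveI : IsLocalHom (algebraMap A A') :=
    RingHom.IsIntegral.isLocalHom Algebra.IsIntegral.isIntegral hinjA'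
  haveI : IsPurelyInseparable (ResidueField A) (ResidueField A') := by
    obtain ⟨q, hq⟩ := ExpChar.exists (ResidueField A)
    haveI : ExpChar (ResidueField A') q :=
      expChar_of_injective_ringHom (algebraMap (ResidueField A) (ResidueField A')).injective q
    rw [isPurelyInseparable_iff_pow_mem (ResidueField A) q]
    intro x
    haveI : ExpChar (A' ⧸ maximalIdeal A') q := ‹ExpChar (ResidueField A') q›
    letI := Ideal.Quotient.field (maximalIdeal A')
    obtain ⟨n, a, ha⟩ := hpi (maximalIdeal A') x
    rw [ringExpChar.eq (A' ⧸ maximalIdeal A') q] at ha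
    exact ⟨n, residue A a, ha⟩
  let B' := B ⊗[A] A'
  haveI : Module.FaithfullyFlat A B := Module.FaithfullyFlat.of_flat_of_isLocalHom
  haveI : Nontrivial B' := Module.FaithfullyFlat.lTensor_nontrivial A B A'
  haveI : IsLocalRing B' := by
    obtain ⟨M₀, hM₀⟩ := Ideal.exists_maximal B'
    haveI := hM₀
    exact IsLocalRing.of_unique_max_ideal ⟨M₀, hM₀, fun M hM => haveI := hM; eq_of_purelyInseparable A B A' M M₀⟩
  have hinjB : Function.Injective (algebraMap B B') :=
    Algebra.TensorProduct.includeLeft_injective (S := A) (A := B) hinjA'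
  haveI : Algebra.IsIntegral B B' := inferInstance
  let U' : Set (PrimeSpectrum B') := {q | q.asIdeal.comap (algebraMap A B') ≠ maximalIdeal A}
  have himg : PrimeSpectrum.comap (algebraMap B B') '' U' =
      {q : PrimeSpectrum B | q.asIdeal.comap (algebraMap A B) ≠ maximalIdeal A} := by
    have hc : ∀ q : PrimeSpectrum B', (PrimeSpectrum.comap (algebraMap B B') q).asIdeal.comap (algebraMap A B) =
        q.asIdeal.comap (algebraMap A B') := fun q => by
      rw [PrimeSpectrum.comap_asIdeal, Ideal.comap_comap, ← IsScalarTower.algebraMap_eq]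
    ext q
    constructor
    · rintro ⟨q', hq', rfl⟩
      show _ ≠ _
      rw [hc]; exact hq'
    · intro hq
      haveI : FaithfulSMul B B' := (faithfulSMul_iff_algebraMap_injective B B').2 hinjB
      obtain ⟨q', rfl⟩ := Algebra.IsIntegral.comap_surjective B B' q
      exact ⟨q', fun h => hq ((hc q').trans h), rfl⟩
  rw [← himg]
  refine IsPreconnected.image ?_ _ (PrimeSpectrum.continuous_comap _).continuousOn
  -- the generic fibre
  let L := B ⊗[A] K
  let g : B' →ₐ[B] L := Algebra.TensorProduct.map (AlgHom.id B B) A'.val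
  have hg : Function.Injective g :=
    Module.Flat.lTensor_preserves_injective_linearMap (M := B) A'.val.toLinearMap Subtype.val_injective
  letI : Algebra B' L := g.toRingHom.toAlgebra
  have hKu : ∀ t : A, t ≠ 0 → IsUnit (algebraMap A L t) := fun t ht0 => by
    have h0 : IsUnit (algebraMap A K t) :=
      IsUnit.mk0 _ fun h => ht0 (IsFractionRing.injective A K (by rw [h, map_zero]))
    have := h0.map (Algebra.TensorProduct.includeRight : K →ₐ[A] L)
    rwa [AlgHom.commutes] at this
  have hgA : ∀ t : A, g (algebraMap A B' t) = algebraMap A L t := fun t => (g.restrictScalars A).commutes t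
  -- generizations into the generic fibre
  have hgen : ∀ q : PrimeSpectrum B', ∃ z : PrimeSpectrum L, PrimeSpectrum.comap g.toRingHom z ≤ q :=
    exists_generization A B A'
  have hU'open : ∀ q ∈ U', ∃ s ∈ maximalIdeal A, algebraMap A B' s ∉ q.asIdeal := by
    intro q hq
    by_contra hcon
    push Not at hcon
    exact hq ((IsLocalRing.maximalIdeal.isMaximal A).eq_of_le (Ideal.IsPrime.comap _).ne_top hcon).symm
  have hLU' : ∀ z : PrimeSpectrum L, PrimeSpectrum.comap g.toRingHom z ∈ U' := by
    intro z h
    have hne : maximalIdeal A ≠ ⊥ := fun hb => by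
      rw [ringKrullDim_eq_zero_of_isField (IsLocalRing.isField_iff_maximalIdeal_eq.2 hb)] at hdim
      exact absurd hdim (by norm_num)
    obtain ⟨s, hs, hs0⟩ := Submodule.exists_mem_ne_zero_of_ne_bot hne
    have : algebraMap A L s ∈ z.asIdeal := by
      rw [← hgA]
      exact (h ▸ hs : s ∈ (PrimeSpectrum.comap g.toRingHom z).asIdeal.comap (algebraMap A B'))
    exact z.2.ne_top (Ideal.eq_top_of_isUnit_mem _ this (hKu s hs0))
  -- a partition of `U'` gives an idempotent of `B'`
  intro u v hu hv huv hnu hnv
  by_contra hne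
  rw [Set.not_nonempty_iff_eq_empty] at hne
  have hcl : IsClopen (PrimeSpectrum.comap g.toRingHom ⁻¹' u) := by
    refine ⟨⟨?_⟩, hu.preimage (PrimeSpectrum.continuous_comap _)⟩
    have : (PrimeSpectrum.comap g.toRingHom ⁻¹' u)ᶜ = PrimeSpectrum.comap g.toRingHom ⁻¹' v := by
      ext z
      constructor
      · exact fun hz => (huv (hLU' z)).resolve_left hz
      · exact fun hz hzu => Set.eq_empty_iff_forall_notMem.1 hne _ ⟨hLU' z, hzu, hz⟩
    rw [this]; exact hv.preimage (PrimeSpectrum.continuous_comap _)
  obtain ⟨e, he, heu⟩ := PrimeSpectrum.isClopen_iff.1 hcl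
  have hloc_e : ∀ s ∈ maximalIdeal A, ∃ N : ℕ, (s ^ N) • e ∈ LinearMap.range (A'.val.toLinearMap.lTensor B) := by
    intro s hs
    by_cases hs0 : s = 0
    · exact ⟨1, 0, by rw [map_zero, pow_one, hs0, zero_smul]⟩
    let s' := algebraMap A B' s
    let Bs := Localization.Away s'
    have hu' : IsUnit (g s') := (hgA s).symm ▸ hKu s hs0
    let h : Bs →+* L := IsLocalization.Away.lift s' (g := g.toRingHom) hu'
    have hh : h.comp (algebraMap B' Bs) = g.toRingHom := IsLocalization.Away.lift_comp s' hu'
    have hrange : ∀ w : PrimeSpectrum Bs, PrimeSpectrum.comap (algebraMap B' Bs) w ∈ U' := fun w hw => by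
      refine w.2.ne_top (Ideal.eq_top_of_isUnit_mem _ ?_ (IsLocalization.Away.algebraMap_isUnit s'))
      exact (hw ▸ hs : s ∈ (PrimeSpectrum.comap (algebraMap B' Bs) w).asIdeal.comap (algebraMap A B'))
    have hcl' : IsClopen (PrimeSpectrum.comap (algebraMap B' Bs) ⁻¹' u) := by
      refine ⟨⟨?_⟩, hu.preimage (PrimeSpectrum.continuous_comap _)⟩
      have : (PrimeSpectrum.comap (algebraMap B' Bs) ⁻¹' u)ᶜ = PrimeSpectrum.comap (algebraMap B' Bs) ⁻¹' v := by
        ext w
        constructor
        · exact fun hz => (huv (hrange w)).resolve_left hz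
        · exact fun hz hzu => Set.eq_empty_iff_forall_notMem.1 hne _ ⟨hrange w, hzu, hz⟩
      rw [this]; exact hv.preimage (PrimeSpectrum.continuous_comap _)
    obtain ⟨e₁, he₁, he₁u⟩ := PrimeSpectrum.isClopen_iff.1 hcl'
    have heq : h e₁ = e := by
      refine PrimeSpectrum.basicOpen_injOn_isIdempotentElem (he₁.map h) he ?_
      refine TopologicalSpace.Opens.ext ?_
      rw [← heu]
      show PrimeSpectrum.comap h ⁻¹' (PrimeSpectrum.basicOpen e₁ : Set _) = _
      rw [← he₁u, ← Set.preimage_comp, ← hh]
      rfl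
    obtain ⟨⟨b, ⟨t, ht⟩⟩, hb⟩ := IsLocalization.surj (Submonoid.powers s') e₁
    obtain ⟨N, rfl⟩ := Submonoid.mem_powers_iff _ _ |>.1 ht
    refine ⟨N, b, ?_⟩
    have := congrArg h hb
    rw [map_mul, heq, ← RingHom.comp_apply h, ← RingHom.comp_apply h, hh] at this
    calc A'.val.toLinearMap.lTensor B b = g b := rfl
      _ = e * g (s' ^ N) := this.symm
      _ = (s ^ N) • e := by rw [← algebraMap_smul L (s ^ N) e, smul_eq_mul, ← hgA, mul_comm, map_pow (algebraMap A B')]
  have hmem : e ∈ Set.range g := by
    obtain ⟨b, hb⟩ := mem_range_tensor A B hdim e hloc_e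
    exact ⟨b, hb⟩
  obtain ⟨d, hd⟩ := hmem
  have hdd : IsIdempotentElem d := hg (by rw [map_mul, hd, he.eq])
  obtain ⟨a, haU, hau⟩ := hnu
  obtain ⟨b, hbU, hbv⟩ := hnv
  obtain ⟨za, hza⟩ := hgen a
  obtain ⟨zb, hzb⟩ := hgen b
  have hza' : za ∈ (PrimeSpectrum.basicOpen e : Set (PrimeSpectrum L)) := by
    rw [← heu]; exact ((PrimeSpectrum.le_iff_specializes _ _).1 hza).mem_open hu hau
  have hzb' : zb ∉ (PrimeSpectrum.basicOpen e : Set (PrimeSpectrum L)) := by
    rw [← heu]
    exact fun h => Set.eq_empty_iff_forall_notMem.1 hne _ ⟨hLU' zb, h, ((PrimeSpectrum.le_iff_specializes _ _).1 hzb).mem_open hv hbv⟩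
  rcases IsLocalRing.isUnit_or_isUnit_one_sub_self d with hu1 | hu1
  · exact hzb' (by
      rw [← hd, (IsIdempotentElem.iff_eq_one_of_isUnit hu1).1 hdd, map_one]
      simp)
  · have h1 : (1 - d) * d = 0 := by rw [sub_mul, one_mul, hdd.eq, sub_self]
    rw [← hd, hu1.mul_right_eq_zero.1 h1, map_zero] at hza'
    simp at hza'

end Groth.Agent.UnibrConn6
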