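import Groth.Agent.Lib.UnibrConn6.DimTwo
import Groth.Agent.Lib.UnibrConn6.Scheme
import Groth.Agent.Lib.Descend.BaseChangeAt

/-!
# Connected complements over geometrically unibranch bases of dimension at least two
-/

set_option autoImplicit false
set_option linter.style.haveILetI false
set_option backward.isDefEq.respectTransparency.types false
universe u

open CategoryTheory AlgebraicGeometry IsLocalRing

namespace Groth.Agent.UnibrConn6

theorem isConnected_compl_of_generizations {X : Scheme.{u}} [IsLocallyNoetherian X] [ConnectedSpace ↥X]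
    (T : Set X) (hT : IsClosed T)
    (hG : ∀ x ∈ T, ∃ G : Set X, _root_.IsPreconnected G ∧ G ⊆ Tᶜ ∧ (∀ g ∈ G, g ⤳ x) ∧
      ∀ z : X, z ⤳ x → ∃ g ∈ G, g ⤳ z) : IsConnected Tᶜ := by
  refine ⟨?_, ?_⟩
  · obtain ⟨x⟩ := (inferInstance : Nonempty X)
    by_cases hx : x ∈ T
    · obtain ⟨G, -, hGT, -, hgen⟩ := hG x hx
      obtain ⟨g, hg, -⟩ := hgen x specializes_rfl
      exact ⟨g, hGT hg⟩
    · exact ⟨x, hx⟩
  intro u v hu hv huv hnu hnv
  by_contra hne
  rw [Set.not_nonempty_iff_eq_empty] at hne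
  have hne' := Set.eq_empty_iff_forall_notMem.1 hne
  let V₁ : X.Opens := ⟨Tᶜ ∩ u, hT.isOpen_compl.inter hu⟩
  let V₂ : X.Opens := ⟨Tᶜ ∩ v, hT.isOpen_compl.inter hv⟩
  have hsep : ∀ x, x ∈ closure (V₁ : Set X) → x ∈ closure (V₂ : Set X) → False := by
    intro x h1 h2
    by_cases hx : x ∈ T
    · obtain ⟨G, hGc, hGT, -, hgen⟩ := hG x hx
      obtain ⟨z₁, hz₁, hs₁⟩ := exists_specializes_of_mem_closure V₁ x h1
      obtain ⟨z₂, hz₂, hs₂⟩ := exists_specializes_of_mem_closure V₂ x h2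
      obtain ⟨g₁, hg₁, hgs₁⟩ := hgen z₁ hs₁
      obtain ⟨g₂, hg₂, hgs₂⟩ := hgen z₂ hs₂
      have h₁ : g₁ ∈ V₁ := hgs₁.mem_open V₁.isOpen hz₁
      have h₂ : g₂ ∈ V₂ := hgs₂.mem_open V₂.isOpen hz₂
      obtain ⟨g, hg, hgu, hgv⟩ := hGc u v hu hv (hGT.trans huv) ⟨g₁, hg₁, h₁.2⟩ ⟨g₂, hg₂, h₂.2⟩
      exact hne' g ⟨hGT hg, hgu, hgv⟩
    · rcases huv hx with h | h
      · obtain ⟨y, hy1, hy2⟩ := mem_closure_iff.1 h2 _ (hT.isOpen_compl.inter hu) ⟨hx, h⟩
        exact hne' y ⟨hy1.1, hy1.2, hy2.2⟩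
      · obtain ⟨y, hy1, hy2⟩ := mem_closure_iff.1 h1 _ (hT.isOpen_compl.inter hv) ⟨hx, h⟩
        exact hne' y ⟨hy1.1, hy2.2, hy1.2⟩
  have hcov : closure (V₁ : Set X) ∪ closure (V₂ : Set X) = Set.univ := by
    refine Set.eq_univ_of_forall fun x => ?_
    by_cases hx : x ∈ T
    · obtain ⟨G, -, hGT, hGx, hgen⟩ := hG x hx
      obtain ⟨g, hg, -⟩ := hgen x specializes_rfl
      rcases huv (hGT hg) with h | h
      · exact Or.inl ((hGx g hg).mem_closed isClosed_closure (subset_closure ⟨hGT hg, h⟩))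
      · exact Or.inr ((hGx g hg).mem_closed isClosed_closure (subset_closure ⟨hGT hg, h⟩))
    · rcases huv hx with h | h
      · exact Or.inl (subset_closure ⟨hx, h⟩)
      · exact Or.inr (subset_closure ⟨hx, h⟩)
  obtain ⟨a, ha⟩ := hnu
  obtain ⟨b, hb⟩ := hnv
  obtain ⟨x, -, hx1, hx2⟩ := isPreconnected_closed_iff.1 isPreconnected_univ _ _ isClosed_closure isClosed_closure
    hcov.ge ⟨a, trivial, subset_closure ha⟩ ⟨b, trivial, subset_closure hb⟩
  exact hsep x hx1 hx2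

theorem isConnected_compl_closedFibre (A : Type u) [CommRing A]
    [IsNoetherianRing A] [IsLocalRing A] [IsDomain A] (hA : CAlg2.IsGeomUnibranch A) (hdim : 2 ≤ ringKrullDim A)
    {X : Scheme.{u}} [IsLocallyNoetherian X] [ConnectedSpace ↥X] (f : X ⟶ Spec (CommRingCat.of A)) [Flat f]
    (T : Set ↥X) (hT : IsClosed T) (hTy : ∀ x ∈ T, f.base x = IsLocalRing.closedPoint A) :
    IsConnected Tᶜ := by
  refine isConnected_compl_of_generizations T hT fun x hx => ?_
  obtain ⟨φ, hφ⟩ := Spec.map_surjective (X.fromSpecStalk x ≫ f)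
  haveI := Descend.flat_fromSpecStalk x
  have hφflat : φ.hom.Flat := (HasRingHomProperty.Spec_iff (P := @Flat)).1 (hφ ▸ inferInstance)
  let B : Type u := X.presheaf.stalk x
  letI : Algebra A B := φ.hom.toAlgebra
  haveI : Module.Flat A B := hφflat
  have hc : ∀ q : PrimeSpectrum B,
      PrimeSpectrum.comap (algebraMap A B) q = f (X.fromSpecStalk x q) := fun q => by
    rw [← Scheme.Hom.comp_apply, ← hφ]; rfl
  haveI : IsLocalHom (algebraMap A B) := by
    refine ((local_hom_TFAE _).out 0 4).mpr ?_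
    have h := hc (IsLocalRing.closedPoint B)
    rw [Scheme.fromSpecStalk_closedPoint, hTy x hx] at h
    exact congrArg PrimeSpectrum.asIdeal h
  have hpre := isPreconnected_compl_closedFibre A B hA hdim
  have hne : maximalIdeal A ≠ ⊥ := fun hb => by
    rw [ringKrullDim_eq_zero_of_isField (IsLocalRing.isField_iff_maximalIdeal_eq.2 hb)] at hdim
    exact absurd hdim (by norm_num)
  refine ⟨X.fromSpecStalk x '' {q : PrimeSpectrum B | q.asIdeal.comap (algebraMap A B) ≠ maximalIdeal A},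
    hpre.image _ (X.fromSpecStalk x).continuous.continuousOn, ?_, ?_, ?_⟩
  · rintro _ ⟨q, hq, rfl⟩ hqT
    exact hq (congrArg PrimeSpectrum.asIdeal ((hc q).trans (hTy _ hqT)))
  · rintro _ ⟨q, -, rfl⟩
    have : X.fromSpecStalk x q ∈ Set.range (X.fromSpecStalk x) := ⟨q, rfl⟩
    rwa [Scheme.range_fromSpecStalk] at this
  · intro z hz
    obtain ⟨q, rfl⟩ : z ∈ Set.range (X.fromSpecStalk x) := by rwa [Scheme.range_fromSpecStalk]
    obtain ⟨Q, hle, hQp, hlies⟩ := Ideal.exists_ideal_le_liesOver_of_le (S := B) (p := (⊥ : Ideal A))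
      (PrimeSpectrum.asIdeal (R := B) q) (bot_le : (⊥ : Ideal A) ≤ (PrimeSpectrum.asIdeal (R := B) q).under A)
    refine ⟨_, ⟨⟨Q, hQp⟩, ?_, rfl⟩,
      ((PrimeSpectrum.le_iff_specializes (⟨Q, hQp⟩ : PrimeSpectrum B) q).1 hle).map (X.fromSpecStalk x).continuous⟩
    show Q.comap (algebraMap A B) ≠ _
    rw [show Q.comap (algebraMap A B) = ⊥ from hlies.1.symm]
    exact hne.symm

end Groth.Agent.UnibrConn6
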