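import Groth.Agent.Lib.HensConnFib6.Basic

/-!
# Tensor products with integral algebras with purely inseparable residue field are local
-/

set_option autoImplicit false
set_option linter.style.haveILetI false
universe u

open TensorProduct IsLocalRing

namespace Groth.Agent.UnibrConn6

variable (A B : Type u) [CommRing A] [IsLocalRing A] [CommRing B] [IsLocalRing B] [Algebra A B]
  [IsLocalHom (algebraMap A B)] (N : Type u) [CommRing N] [IsLocalRing N] [Algebra A N] [Algebra.IsIntegral A N]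

theorem maximal_comap' (M : Ideal (B ⊗[A] N)) [M.IsMaximal] :
    M.comap (Algebra.TensorProduct.includeLeftRingHom : B →+* B ⊗[A] N) = maximalIdeal B ∧
      M.comap (Algebra.TensorProduct.includeRight : N →ₐ[A] B ⊗[A] N) = maximalIdeal N := by
  haveI : Algebra.IsIntegral B (B ⊗[A] N) := inferInstance
  have h1 : M.comap (algebraMap B (B ⊗[A] N)) = maximalIdeal B :=
    IsLocalRing.eq_maximalIdeal (Ideal.isMaximal_comap_of_isIntegral_of_isMaximal (R := B) M)
  refine ⟨h1, ?_⟩
  let φ : N →ₐ[A] B ⊗[A] N := Algebra.TensorProduct.includeRight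
  haveI : (M.comap φ).IsPrime := Ideal.IsPrime.comap φ
  have h2 : (M.comap φ).comap (algebraMap A N) = maximalIdeal A := by
    refine ((IsLocalRing.maximalIdeal.isMaximal A).eq_of_le (Ideal.IsPrime.ne_top inferInstance) fun a ha => ?_).symm
    show φ (algebraMap A N a) ∈ M
    rw [φ.commutes, IsScalarTower.algebraMap_apply A B (B ⊗[A] N)]
    show algebraMap A B a ∈ M.comap (algebraMap B (B ⊗[A] N))
    rw [h1]
    exact map_nonunit (algebraMap A B) a ha
  haveI : (M.comap φ).IsMaximal :=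
    Ideal.isMaximal_of_isIntegral_of_isMaximal_comap (R := A) (M.comap φ) (by rw [h2]; exact IsLocalRing.maximalIdeal.isMaximal A)
  exact IsLocalRing.eq_maximalIdeal ‹_›

theorem eq_of_purelyInseparable [IsLocalHom (algebraMap A N)] [IsPurelyInseparable (ResidueField A) (ResidueField N)]
    (M M₀ : Ideal (B ⊗[A] N)) [M.IsMaximal] [M₀.IsMaximal] : M = M₀ := by
  classical
  obtain ⟨p, hp⟩ : ∃ p, ExpChar (ResidueField A) p := ⟨_, ringExpChar.expChar (ResidueField A)⟩
  let φ : N →ₐ[A] B ⊗[A] N := Algebra.TensorProduct.includeRight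
  let ι : B →+* B ⊗[A] N := Algebra.TensorProduct.includeLeftRingHom
  have hchar : ∀ (P : Ideal (B ⊗[A] N)) [P.IsMaximal], ExpChar ((B ⊗[A] N) ⧸ P) p := by
    intro P _
    have hker : ∀ a ∈ maximalIdeal A, (Ideal.Quotient.mk P) (algebraMap A (B ⊗[A] N) a) = 0 := fun a ha => by
      rw [Ideal.Quotient.eq_zero_iff_mem]
      show ι (algebraMap A B a) ∈ P
      have : algebraMap A B a ∈ maximalIdeal B := map_nonunit (algebraMap A B) a ha
      rwa [← (maximal_comap' A B N P).1] at this
    letI : Field ((B ⊗[A] N) ⧸ P) := Ideal.Quotient.field P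
    let f : ResidueField A →+* (B ⊗[A] N) ⧸ P :=
      Ideal.Quotient.lift (maximalIdeal A) ((Ideal.Quotient.mk P).comp (algebraMap A (B ⊗[A] N))) hker
    exact expChar_of_injective_ringHom (R := ResidueField A) f.injective p
  have happ : ∀ x : B ⊗[A] N, ∃ (k : ℕ) (b : B), ∀ (P : Ideal (B ⊗[A] N)) [P.IsMaximal],
      x ^ (p ^ k) - ι b ∈ P := by
    intro x
    induction x using TensorProduct.induction_on with
    | zero => exact ⟨0, 0, fun P _ => by simp⟩
    | tmul c n =>
      obtain ⟨k, r, hr⟩ := IsPurelyInseparable.pow_mem (ResidueField A) p (residue N n)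
      obtain ⟨a, rfl⟩ := residue_surjective r
      refine ⟨k, c ^ (p ^ k) * algebraMap A B a, fun P hP => ?_⟩
      have hna : n ^ (p ^ k) - algebraMap A N a ∈ maximalIdeal N := by
        refine Ideal.Quotient.eq.1 ?_
        show residue N (n ^ (p ^ k)) = residue N (algebraMap A N a)
        rw [map_pow, ← hr]
        rfl
      rw [← (maximal_comap' A B N P).2] at hna
      have : (c ⊗ₜ[A] n) ^ (p ^ k) - ι (c ^ (p ^ k) * algebraMap A B a) =
          ι (c ^ (p ^ k)) * φ (n ^ (p ^ k) - algebraMap A N a) := by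
        rw [map_mul, map_sub, mul_sub, φ.commutes]
        congr 1
        show (c ⊗ₜ[A] n) ^ (p ^ k) = (c ^ (p ^ k)) ⊗ₜ[A] (1 : N) * (1 : B) ⊗ₜ[A] (n ^ (p ^ k))
        rw [Algebra.TensorProduct.tmul_pow, Algebra.TensorProduct.tmul_mul_tmul, mul_one, one_mul]
      rw [this]
      exact P.mul_mem_left _ hna
    | add x y hx hy =>
      obtain ⟨k, a, ha⟩ := hx
      obtain ⟨l, b, hb⟩ := hy
      refine ⟨k + l, a ^ (p ^ l) + b ^ (p ^ k), fun P hP => ?_⟩
      haveI := hchar P
      rw [← Ideal.Quotient.eq, map_pow, map_add, map_add, map_add, map_pow, map_pow, add_pow_expChar_pow,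
        ← map_pow, ← map_pow]
      have e1 : Ideal.Quotient.mk P x ^ p ^ k = Ideal.Quotient.mk P (ι a) := by
        rw [← map_pow]; exact Ideal.Quotient.eq.2 (ha P)
      have e2 : Ideal.Quotient.mk P y ^ p ^ l = Ideal.Quotient.mk P (ι b) := by
        rw [← map_pow]; exact Ideal.Quotient.eq.2 (hb P)
      rw [map_pow, map_pow, pow_add, pow_mul, e1, mul_comm (p ^ k), pow_mul, e2, map_pow, map_pow]
  refine Ideal.IsMaximal.eq_of_le ‹M.IsMaximal› ‹M₀.IsMaximal›.ne_top fun x hx => ?_
  obtain ⟨k, b, hb⟩ := happ x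
  have hpk : p ^ k ≠ 0 := pow_ne_zero _ (expChar_pos (ResidueField A) p).ne'
  have hb' : b ∈ M.comap ι := by
    show ι b ∈ M
    simpa using sub_mem (Ideal.pow_mem_of_mem M hx _ (Nat.pos_of_ne_zero hpk)) (hb M)
  rw [(maximal_comap' A B N M).1, ← (maximal_comap' A B N M₀).1] at hb'
  have h2 := add_mem (hb M₀) (hb' : ι b ∈ M₀)
  rw [sub_add_cancel] at h2
  exact (Ideal.IsMaximal.isPrime ‹M₀.IsMaximal›).mem_of_pow_mem _ h2

end Groth.Agent.UnibrConn6
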